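import Groth.Agent.TowerModLib.Basic
import Groth.Agent.ModSiteLib.Grothendieck
import Groth.Agent.ModSiteLib.Colimits
import Groth.Agent.TowerTopLib.Main
import Mathlib.CategoryTheory.Abelian.RightDerived
import Mathlib.Algebra.Homology.ShortComplex.ExactFunctor

/-!
# Vanishing of the derived limits of a tower of sheaves of modules acyclic on a basis
-/

set_option autoImplicit false
set_option linter.unusedSectionVars false
set_option linter.style.haveILetI false
set_option maxHeartbeats 1000000

universe u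

open CategoryTheory CategoryTheory.Limits Opposite TopologicalSpace
open QCohLib (AbSh HU)

noncomputable section

namespace TowerModLib

variable {X : TopCat.{u}} (R : Sheaf (Opens.grothendieckTopology X) RingCat.{u})

/-- Sections of a module. -/
abbrev Sec (M : SheafOfModules.{u} R) (U : Opens X) : Type u := ((SheafOfModules.toSheaf R).obj M).obj.obj (op U)

/-- Sections of a map of modules. -/
abbrev secMap {M N : SheafOfModules.{u} R} (f : M ⟶ N) (U : Opens X) : Sec R M U →+ Sec R N U :=
  (((SheafOfModules.toSheaf R).map f).hom.app (op U)).hom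

variable {R}

theorem secMap_comp {M N Q : SheafOfModules.{u} R} (f : M ⟶ N) (g : N ⟶ Q) (U : Opens X) (x : Sec R M U) :
    secMap R (f ≫ g) U x = secMap R g U (secMap R f U x) :=
  ConcreteCategory.congr_hom (congrArg (fun φ => φ.hom.app (op U)) ((SheafOfModules.toSheaf R).map_comp f g)) x

theorem secMap_zero {M N : SheafOfModules.{u} R} (U : Opens X) (x : Sec R M U) :
    secMap R (0 : M ⟶ N) U x = 0 :=
  (ConcreteCategory.congr_hom (congrArg (fun φ => φ.hom.app (op U)) ((SheafOfModules.toSheaf R).map_zero M N)) x).trans rfl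

variable (T : ℕᵒᵖ ⥤ SheafOfModules.{u} R) (U : Opens X)

instance preservesHomology_toSheaf : (SheafOfModules.toSheaf.{u} R).PreservesHomology :=
  haveI : PreservesFiniteLimits (SheafOfModules.toSheaf.{u} R) := inferInstance
  haveI : PreservesFiniteColimits (SheafOfModules.toSheaf.{u} R) := inferInstance
  inferInstance

/-- The transition map on sections. -/
abbrev tr (n : ℕ) : Sec R (T.obj (op (n + 1))) U →+ Sec R (T.obj (op n)) U :=
  secMap R (T.map (homOfLE (Nat.le_succ n)).op) U

theorem exists_lim (s : ∀ n, Sec R (T.obj (op n)) U) (hs : ∀ n, tr T U n (s (n + 1)) = s n) :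
    ∃ t : Sec R (limit T) U, ∀ n, secMap R (limit.π T (op n)) U t = s n := by
  obtain ⟨t, ht⟩ := CohTopLib.exists_limit_section (T ⋙ SheafOfModules.toSheaf R) U s hs
  refine ⟨(preservesLimitIso (SheafOfModules.toSheaf R) T).inv.hom.app (op U) t, fun n => ?_⟩
  refine Eq.trans ?_ (ht n)
  exact ConcreteCategory.congr_hom (congrArg (fun φ => φ.hom.app (op U))
    (preservesLimitIso_inv_π (SheafOfModules.toSheaf R) T (op n))) t

theorem lim_ext (s t : Sec R (limit T) U)
    (h : ∀ n, secMap R (limit.π T (op n)) U s = secMap R (limit.π T (op n)) U t) : s = t := by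
  let c := preservesLimitIso (SheafOfModules.toSheaf R) T
  have e : ∀ x : Sec R (limit T) U, ∀ n, (limit.π (T ⋙ SheafOfModules.toSheaf R) (op n)).hom.app (op U)
      (c.hom.hom.app (op U) x) = secMap R (limit.π T (op n)) U x := fun x n =>
    ConcreteCategory.congr_hom (congrArg (fun φ => φ.hom.app (op U))
      (preservesLimitIso_hom_π (SheafOfModules.toSheaf R) T (op n))) x
  have e' : ∀ x : Sec R (limit T) U, c.inv.hom.app (op U) (c.hom.hom.app (op U) x) = x := fun x =>
    ConcreteCategory.congr_hom (congrArg (fun φ => φ.hom.app (op U)) c.hom_inv_id) x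
  rw [← e' s, ← e' t]
  exact congrArg (c.inv.hom.app (op U)) (CohTopLib.limit_section_ext (T ⋙ SheafOfModules.toSheaf R) U _ _
    fun n => (e s n).trans ((h n).trans (e t n).symm))

variable {T U}

theorem tr_nat {T' : ℕᵒᵖ ⥤ SheafOfModules.{u} R} (α : T ⟶ T') (n : ℕ) (x : Sec R (T.obj (op (n + 1))) U) :
    tr T' U n (secMap R (α.app (op (n + 1))) U x) = secMap R (α.app (op n)) U (tr T U n x) := by
  rw [← secMap_comp, ← secMap_comp, α.naturality]

theorem tr_surjective (I : ℕᵒᵖ ⥤ SheafOfModules.{u} R) [Injective I] (n : ℕ) :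
    Function.Surjective (tr I U n) := by
  obtain ⟨g, hg⟩ := exists_section I n
  refine fun x => ⟨secMap R g U x, ?_⟩
  rw [← secMap_comp, hg]
  exact ConcreteCategory.congr_hom (congrArg (fun φ => φ.hom.app (op U)) ((SheafOfModules.toSheaf R).map_id _)) x

section Resolution

variable {E : ℕᵒᵖ ⥤ SheafOfModules.{u} R} (P : InjectiveResolution E)
  (hE : ∀ (n i : ℕ), 1 ≤ i → Subsingleton (CohTop.HU ((SheafOfModules.toSheaf R).obj (E.obj (op n))) i U))

/-- Evaluation followed by the underlying abelian sheaf. -/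
abbrev G (n : ℕ) : (ℕᵒᵖ ⥤ SheafOfModules.{u} R) ⥤ AbSh X :=
  (evaluation ℕᵒᵖ (SheafOfModules.{u} R)).obj (op n) ⋙ SheafOfModules.toSheaf R

/-- The differential on sections. -/
abbrev D (n k : ℕ) : Sec R ((P.cocomplex.X k).obj (op n)) U →+ Sec R ((P.cocomplex.X (k + 1)).obj (op n)) U :=
  secMap R ((P.cocomplex.d k (k + 1)).app (op n)) U

theorem D_D (n k : ℕ) (x : Sec R ((P.cocomplex.X k).obj (op n)) U) : D P n (k + 1) (D P n k x) = 0 := by
  rw [← secMap_comp, ← NatTrans.comp_app, HomologicalComplex.d_comp_d]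
  exact secMap_zero U x

/-- The kernel fork of the resolution at level `n`. -/
theorem isLimit_fork (n : ℕ) : Nonempty (IsLimit (KernelFork.ofι ((G (R := R) n).map (P.ι.f 0))
    (show (G (R := R) n).map (P.ι.f 0) ≫ (G (R := R) n).map (P.cocomplex.d 0 1) = 0 by
      rw [← Functor.map_comp, P.ι_f_zero_comp_complex_d, Functor.map_zero]))) :=
  ⟨KernelFork.mapIsLimit P.kernelFork P.isLimitKernelFork (G (R := R) n)⟩

include hE in
theorem level_exact (n k : ℕ) (s : Sec R ((P.cocomplex.X (k + 1)).obj (op n)) U)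
    (hs : D P n (k + 1) s = 0) : ∃ t, D P n k t = s := by
  haveI : ∀ k, Injective ((P.cocomplex.X k).obj (op n)) := fun k => injective_eval _ _
  let C := ((G (R := R) n).mapHomologicalComplex (ComplexShape.up ℕ)).obj P.cocomplex
  refine sections_exact C (fun k => acy_injective R ((P.cocomplex.X k).obj (op n)) U) ?_
    (fun k => (P.exact_succ k).map (G (R := R) n)) k s hs
  obtain ⟨hl⟩ := isLimit_fork P n
  exact Acy.of_iso (hl.conePointUniqueUpToIso (kernelIsKernel (C.d 0 1)))
    (fun q => hE n (q + 1) (Nat.le_add_left 1 q))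

theorem ker_zero (n : ℕ) (s : Sec R ((P.cocomplex.X 0).obj (op n)) U) (hs : D P n 0 s = 0) :
    ∃ e : Sec R (E.obj (op n)) U, secMap R ((P.ι.f 0).app (op n)) U e = s := by
  obtain ⟨hl⟩ := isLimit_fork P n
  obtain ⟨y, hy⟩ := CohTopLib.exists_kernel_section ((G (R := R) n).map (P.cocomplex.d 0 1)) U s hs
  let c := hl.conePointUniqueUpToIso (kernelIsKernel ((G (R := R) n).map (P.cocomplex.d 0 1)))
  refine ⟨c.inv.hom.app (op U) y, ?_⟩
  have h := hl.conePointUniqueUpToIso_inv_comp (kernelIsKernel ((G (R := R) n).map (P.cocomplex.d 0 1)))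
    WalkingParallelPair.zero
  exact (ConcreteCategory.congr_hom (congrArg (fun φ => φ.hom.app (op U)) h) y).trans hy

include hE in
theorem correct (k : ℕ) (hml : k = 0 → Function.Surjective
      (Formal2.towerDiff (fun n => Sec R (E.obj (op n)) U) (tr E U)))
    (w : ∀ n, Sec R ((P.cocomplex.X k).obj (op n)) U) (hw : ∀ n, D P n k (w n) = 0) :
    ∃ y : ∀ n, Sec R ((P.cocomplex.X k).obj (op n)) U,
      (∀ n, D P n k (y n) = 0) ∧ ∀ n, y n - tr _ U n (y (n + 1)) = w n := by
  cases k with
  | zero =>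
    choose e he using fun n => ker_zero P n (w n) (hw n)
    obtain ⟨v, hv⟩ := hml rfl e
    refine ⟨fun n => secMap R ((P.ι.f 0).app (op n)) U (v n), fun n => ?_, fun n => ?_⟩
    · rw [← secMap_comp, ← NatTrans.comp_app, P.ι_f_zero_comp_complex_d]
      exact secMap_zero U _
    · rw [tr_nat, ← map_sub, ← he n]
      exact congrArg _ (congr_fun hv n)
  | succ j =>
    choose a ha using fun n => level_exact P hE n j (w n) (hw n)
    choose σ hσ using fun n => tr_surjective (U := U) (P.cocomplex.X j) n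
    let v : ∀ n, Sec R ((P.cocomplex.X j).obj (op n)) U :=
      fun n => Nat.rec (motive := fun n => Sec R ((P.cocomplex.X j).obj (op n)) U) 0
        (fun n b => σ n (b - a n)) n
    have hv : ∀ n, v n - tr _ U n (v (n + 1)) = a n := fun n => by
      show v n - tr _ U n (σ n (v n - a n)) = a n
      rw [hσ, sub_sub_cancel]
    refine ⟨fun n => D P n j (v n), fun n => D_D P n j _, fun n => ?_⟩
    rw [tr_nat, ← map_sub, hv, ha]

include hE in
theorem lim_exact (k : ℕ) (hml : k = 0 → Function.Surjective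
      (Formal2.towerDiff (fun n => Sec R (E.obj (op n)) U) (tr E U)))
    (s : Sec R (limit (P.cocomplex.X (k + 1))) U)
    (hs : secMap R (lim.map (P.cocomplex.d (k + 1) (k + 1 + 1))) U s = 0) :
    ∃ t : Sec R (limit (P.cocomplex.X k)) U, secMap R (lim.map (P.cocomplex.d k (k + 1))) U t = s := by
  let sn := fun n => secMap R (limit.π (P.cocomplex.X (k + 1)) (op n)) U s
  have hsn : ∀ n, D P n (k + 1) (sn n) = 0 := fun n => by
    have h := congrArg (secMap R (limit.π (P.cocomplex.X (k + 1 + 1)) (op n)) U) hs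
    rw [map_zero, ← secMap_comp] at h
    rw [← secMap_comp]
    refine Eq.trans ?_ h
    exact congrArg (fun φ => secMap R φ U s) (limMap_π (P.cocomplex.d (k + 1) (k + 1 + 1)) (op n)).symm
  have htr : ∀ n, tr _ U n (sn (n + 1)) = sn n := fun n => by
    rw [← secMap_comp]
    exact congrArg (fun φ => secMap R φ U s) (limit.w (P.cocomplex.X (k + 1)) (homOfLE (Nat.le_succ n)).op)
  choose t ht using fun n => level_exact P hE n k (sn n) (hsn n)
  obtain ⟨y, hy, hyw⟩ := correct P hE k hml (fun n => tr _ U n (t (n + 1)) - t n) fun n => by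
    rw [map_sub, ← tr_nat, ht, ht, htr, sub_self]
  obtain ⟨T, hT⟩ := exists_lim (P.cocomplex.X k) U (fun n => t n + y n) fun n => by
    rw [map_add]
    linear_combination (norm := abel) -hyw n
  refine ⟨T, lim_ext _ _ _ _ fun n => ?_⟩
  rw [← secMap_comp]
  refine Eq.trans (congrArg (fun φ => secMap R φ U T) (limMap_π (P.cocomplex.d k (k + 1)) (op n))) ?_
  rw [secMap_comp, hT, map_add, hy, add_zero, ht]

end Resolution

/-- The derived limits vanish. -/
theorem isZero_rightDerived [(lim : (ℕᵒᵖ ⥤ SheafOfModules.{u} R) ⥤ SheafOfModules.{u} R).Additive]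
    [HasInjectiveResolutions (ℕᵒᵖ ⥤ SheafOfModules.{u} R)]
    (E : ℕᵒᵖ ⥤ SheafOfModules.{u} R) {B : Set (Opens X)} (hB : Opens.IsBasis B)
    (ha : ∀ U ∈ B, ∀ (n i : ℕ), 1 ≤ i →
      Subsingleton (CohTop.HU ((SheafOfModules.toSheaf R).obj (E.obj (op n))) i U)) (k : ℕ)
    (hml : k = 0 → ∀ U ∈ B, (E ⋙ SheafOfModules.toSheaf R ⋙
        (sheafSections (Opens.grothendieckTopology X) AddCommGrpCat.{u}).obj (op U) ⋙
          forget AddCommGrpCat.{u}).IsMittagLeffler) :
    IsZero (((lim : (ℕᵒᵖ ⥤ SheafOfModules.{u} R) ⥤ SheafOfModules.{u} R).rightDerived (k + 1)).obj E) := by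
  let P : InjectiveResolution E := (HasInjectiveResolution.out (Z := E)).some
  refine IsZero.of_iso ?_ (P.isoRightDerivedObj (lim : (ℕᵒᵖ ⥤ SheafOfModules.{u} R) ⥤ SheafOfModules.{u} R) (k + 1))
  let C := ((lim : (ℕᵒᵖ ⥤ SheafOfModules.{u} R) ⥤ SheafOfModules.{u} R).mapHomologicalComplex
    (ComplexShape.up ℕ)).obj P.cocomplex
  change IsZero (C.homology (k + 1))
  rw [← HomologicalComplex.exactAt_iff_isZero_homology,
    HomologicalComplex.exactAt_iff' C k (k + 1) (k + 1 + 1) (by simp) (by simp),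
    ← ShortComplex.exact_map_iff_of_faithful _ (SheafOfModules.toSheaf R)]
  refine exact_of_basis hB _ fun U hU s hs => ?_
  refine lim_exact P (ha U hU) k (fun hk => ?_) s hs
  exact TowerTopLib.towerDiff_surjective (E ⋙ SheafOfModules.toSheaf R ⋙
    (sheafSections (Opens.grothendieckTopology X) AddCommGrpCat.{u}).obj (op U)) (hml hk U hU)

end TowerModLib
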