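import Groth.Agent.CohTopLib.Tower
import Groth.Agent.CohTopLib.DescExact
import Groth.Agent.CohLib.InjModule
import Groth.Agent.CohLib.Objects
import Groth.Prelude.Def_CohTop
import Mathlib.CategoryTheory.Adjunction.Evaluation
import Mathlib.Algebra.Category.ModuleCat.Sheaf.Colimits
import Mathlib.CategoryTheory.Preadditive.Injective.Resolution

/-!
# Towers of sheaves of modules on a space: injective towers and sections of acyclic resolutions
-/

set_option autoImplicit false
set_option linter.unusedSectionVars false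
set_option linter.style.haveILetI false

universe w v u

open CategoryTheory CategoryTheory.Limits Opposite TopologicalSpace CategoryTheory.Abelian
open QCohLib (AbSh HU)
open CohTopLib (secF)

noncomputable section

namespace TowerModLib

section Split

variable {A : Type w} [Category.{v} A] [Abelian A] [∀ a b : ℕᵒᵖ, HasCoproductsOfShape (a ⟶ b) A]

/-- The left adjoint of evaluation at `c`. -/
abbrev L (c : ℕᵒᵖ) : A ⥤ ℕᵒᵖ ⥤ A := evaluationLeftAdjoint A c

/-- The coproduct injection. -/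
def inj {c e : ℕᵒᵖ} (k : c ⟶ e) (x : A) : x ⟶ ((L c).obj x).obj e := Sigma.ι (fun _ : c ⟶ e => x) k

theorem inj_ext {c e : ℕᵒᵖ} {x y : A} {g g' : ((L c).obj x).obj e ⟶ y} (h : ∀ k, inj k x ≫ g = inj k x ≫ g') :
    g = g' :=
  Sigma.hom_ext _ _ h

/-- A map out of the coproduct. -/
def desc {c e : ℕᵒᵖ} {x y : A} (f : (c ⟶ e) → (x ⟶ y)) : ((L c).obj x).obj e ⟶ y := Sigma.desc f

@[reassoc] theorem inj_desc {c e : ℕᵒᵖ} {x y : A} (f : (c ⟶ e) → (x ⟶ y)) (k : c ⟶ e) : inj k x ≫ desc f = f k :=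
  Sigma.ι_desc _ _

@[reassoc] theorem inj_map {c a b : ℕᵒᵖ} (k : c ⟶ a) (f : a ⟶ b) (x : A) :
    inj k x ≫ ((L c).obj x).map f = inj (k ≫ f) x :=
  Sigma.ι_desc _ _

theorem isIso_inj {c e : ℕᵒᵖ} (k : c ⟶ e) (x : A) : IsIso (inj k x) := by
  refine ⟨Sigma.desc fun _ => 𝟙 x, Sigma.ι_desc _ _, inj_ext fun k' => ?_⟩
  rw [Category.comp_id, Subsingleton.elim k k', ← Category.assoc,
    show inj k' x ≫ Sigma.desc (fun _ => 𝟙 x) = 𝟙 x from Sigma.ι_desc _ _, Category.id_comp]

theorem mono_of_inj {c e : ℕᵒᵖ} {x y : A} (φ : ((L c).obj x).obj e ⟶ y)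
    (h : ∀ k : c ⟶ e, Mono (inj k x ≫ φ)) : Mono φ := by
  cases isEmpty_or_nonempty (c ⟶ e) with
  | inl he =>
    refine ⟨fun g g' _ => ?_⟩
    have hz : IsZero (((L c).obj x).obj e) :=
      (IsZero.iff_id_eq_zero _).2 (inj_ext fun k => isEmptyElim k)
    exact hz.eq_of_tgt _ _
  | inr he =>
    obtain ⟨k⟩ := he
    haveI := isIso_inj k x
    haveI := h k
    rw [show φ = inv (inj k x) ≫ (inj k x ≫ φ) from (IsIso.inv_hom_id_assoc _ _).symm]
    infer_instance

instance preservesMonomorphisms_L (c : ℕᵒᵖ) : (L (A := A) c).PreservesMonomorphisms :=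
  ⟨fun {x y} f _ => by
    haveI : ∀ e, Mono (((L c).map f).app e) := fun e => mono_of_inj _ fun k => by
      haveI := isIso_inj k y
      rw [show inj k x ≫ ((L c).map f).app e = f ≫ inj k y from Sigma.ι_desc _ _]
      infer_instance
    exact NatTrans.mono_of_mono_app _⟩

theorem injective_eval (I : ℕᵒᵖ ⥤ A) [Injective I] (c : ℕᵒᵖ) : Injective (I.obj c) :=
  Injective.injective_of_adjoint (evaluationAdjunctionRight A c) I

/-- The transition maps of an injective tower are split epimorphisms. -/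
theorem exists_section (I : ℕᵒᵖ ⥤ A) [Injective I] (n : ℕ) :
    ∃ g : I.obj (op n) ⟶ I.obj (op (n + 1)), g ≫ I.map (homOfLE (Nat.le_succ n)).op = 𝟙 _ := by
  let t : op (n + 1) ⟶ op n := (homOfLE (Nat.le_succ n)).op
  let θ : (L (op n)).obj (I.obj (op n)) ⟶ (L (op (n + 1))).obj (I.obj (op n)) :=
    { app := fun e => desc fun k => inj (t ≫ k) _
      naturality := fun a b f => inj_ext fun k => by
        rw [inj_map_assoc, inj_desc, inj_desc_assoc, inj_map, Category.assoc] }
  haveI : ∀ e, Mono (θ.app e) := fun e => mono_of_inj _ fun k => by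
    rw [show inj k (I.obj (op n)) ≫ θ.app e = inj (t ≫ k) _ from inj_desc _ _]
    haveI := isIso_inj (t ≫ k) (I.obj (op n))
    infer_instance
  haveI : Mono θ := NatTrans.mono_of_mono_app _
  let φ : (L (op n)).obj (I.obj (op n)) ⟶ I :=
    { app := fun e => desc fun k => I.map k
      naturality := fun a b f => inj_ext fun k => by
        rw [inj_map_assoc, inj_desc, inj_desc_assoc, I.map_comp] }
  let ψ := Injective.factorThru φ θ
  refine ⟨inj (𝟙 (op (n + 1))) _ ≫ ψ.app (op (n + 1)), ?_⟩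
  have h1 : inj (𝟙 (op (n + 1))) (I.obj (op n)) ≫ ((L (op (n + 1))).obj (I.obj (op n))).map t =
      inj (𝟙 (op n)) _ ≫ θ.app (op n) :=
    (inj_map _ _ _).trans ((congrArg (fun k => inj k (I.obj (op n)))
      (Subsingleton.elim (𝟙 (op (n + 1)) ≫ t) (t ≫ 𝟙 (op n)))).trans
      (inj_desc (fun k => inj (t ≫ k) (I.obj (op n))) (𝟙 (op n))).symm)
  calc (inj (𝟙 (op (n + 1))) _ ≫ ψ.app (op (n + 1))) ≫ I.map t
      = inj (𝟙 (op (n + 1))) _ ≫ ((L (op (n + 1))).obj (I.obj (op n))).map t ≫ ψ.app (op n) :=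
        (Category.assoc _ _ _).trans (congrArg (inj (𝟙 (op (n + 1))) _ ≫ ·) (ψ.naturality t).symm)
    _ = inj (𝟙 (op n)) _ ≫ (θ ≫ ψ).app (op n) :=
        (Category.assoc _ _ _).symm.trans ((h1 =≫ ψ.app (op n)).trans (Category.assoc _ _ _))
    _ = inj (𝟙 (op n)) _ ≫ φ.app (op n) := by rw [show θ ≫ ψ = φ from Injective.comp_factorThru _ _]
    _ = 𝟙 _ := (inj_desc _ _).trans (I.map_id _)

end Split

variable {X : TopCat.{u}}

section Acyclic

/-- Vanishing of all higher cohomology over `U`. -/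
def Acy (F : AbSh X) (U : Opens X) : Prop := ∀ q : ℕ, Subsingleton (HU F (q + 1) U)

theorem Acy.X₃ {S : ShortComplex (AbSh X)} (hS : S.ShortExact) {U : Opens X} (h₁ : Acy S.X₁ U)
    (h₂ : Acy S.X₂ U) : Acy S.X₃ U := fun q => by
  refine subsingleton_of_forall_eq 0 fun x => ?_
  haveI := h₁ (q + 1)
  haveI := h₂ q
  obtain ⟨y, rfl⟩ := Ext.covariant_sequence_exact₃ _ hS x rfl (Subsingleton.elim _ _)
  rw [Subsingleton.elim y 0, Ext.zero_comp]

theorem Acy.of_iso {F G : AbSh X} (e : F ≅ G) {U : Opens X} (h : Acy F U) : Acy G U := fun q =>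
  haveI : Subsingleton ((Abelian.extFunctorObj (QCohLib.zsh U) (q + 1)).obj F) := h q
  (((Abelian.extFunctorObj (QCohLib.zsh U) (q + 1)).mapIso e).addCommGroupIsoToAddEquiv).toEquiv.symm.subsingleton

variable (C : CochainComplex (AbSh X) ℕ) {U : Opens X}

/-- Sections of an acyclic resolution form an exact complex. -/
theorem sections_exact (hC : ∀ k, Acy (C.X k) U) (h0 : Acy (kernel (C.d 0 1)) U)
    (hex : ∀ k, (ShortComplex.mk _ _ (C.d_comp_d k (k + 1) (k + 2))).Exact) (k : ℕ)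
    (s : (C.X (k + 1)).obj.obj (op U)) (hs : (C.d (k + 1) (k + 2)).hom.app (op U) s = 0) :
    ∃ t : (C.X k).obj.obj (op U), (C.d k (k + 1)).hom.app (op U) t = s := by
  let g : ∀ k, C.X k ⟶ kernel (C.d (k + 1) (k + 2)) := fun k =>
    kernel.lift _ (C.d k (k + 1)) (C.d_comp_d _ _ _)
  have hgι : ∀ k, g k ≫ kernel.ι (C.d (k + 1) (k + 2)) = C.d k (k + 1) := fun k => kernel.lift_ι _ _ _
  have hz : ∀ k, kernel.ι (C.d k (k + 1)) ≫ g k = 0 := fun k => by
    rw [← cancel_mono (kernel.ι (C.d (k + 1) (k + 2))), Category.assoc, hgι, kernel.condition, zero_comp]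
  have hS : ∀ k, (ShortComplex.mk _ _ (hz k)).ShortExact := fun k => by
    haveI : Epi (g k) := (hex k).epi_kernelLift
    refine ShortComplex.ShortExact.mk' ?_ inferInstance inferInstance
    refine ShortComplex.exact_of_f_is_kernel _ (KernelFork.IsLimit.ofι' _ _ fun {W} a ha => ?_)
    refine ⟨kernel.lift _ a ?_, kernel.lift_ι _ _ _⟩
    change a ≫ g k = 0 at ha
    rw [← hgι, ← Category.assoc, ha, zero_comp]
  have hA : ∀ k, Acy (kernel (C.d k (k + 1))) U := fun k => by
    induction k with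
    | zero => exact h0
    | succ k ih => exact Acy.X₃ (hS k) ih (hC k)
  obtain ⟨y, hy⟩ := CohTopLib.exists_kernel_section (C.d (k + 1) (k + 2)) U s hs
  haveI : Subsingleton (HU (ShortComplex.mk _ _ (hz k)).X₁ 1 U) := hA k 0
  obtain ⟨t, ht⟩ := QCohLib.exists_lift_of_subsingleton (hS k) y
  refine ⟨t, ?_⟩
  rw [← hy, ← hgι]
  exact congrArg ((kernel.ι (C.d (k + 1) (k + 2))).hom.app (op U)) ht

end Acyclic

/-- Exactness can be tested on sections over a basis. -/
theorem exact_of_basis {B : Set (Opens X)} (hB : Opens.IsBasis B) (S : ShortComplex (AbSh X))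
    (h : ∀ U ∈ B, ∀ s : S.X₂.obj.obj (op U), S.g.hom.app (op U) s = 0 →
      ∃ t : S.X₁.obj.obj (op U), S.f.hom.app (op U) t = s) : S.Exact := by
  refine CohTopLib.DescExact.exact_of_local S fun W x hx s hs => ?_
  obtain ⟨V, hVB, hxV, hVW⟩ := Opens.isBasis_iff_nbhd.mp hB hx
  obtain ⟨t, ht⟩ := h V hVB (S.X₂.obj.map (homOfLE hVW).op s) (by
    rw [NatTrans.naturality_apply, hs, map_zero])
  exact ⟨V, hVW, t, hxV, ht⟩

variable (R : Sheaf (Opens.grothendieckTopology X) RingCat.{u})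

theorem acy_injective (I : SheafOfModules.{u} R) [Injective I] (U : Opens X) :
    Acy ((SheafOfModules.toSheaf R).obj I) U := fun q =>
  CohLib.subsingleton_HU _ (CohLib.isTotallyAcyclic_toSheaf R I) U q

instance preservesLimitsOfShape_toSheaf :
    PreservesLimitsOfShape ℕᵒᵖ (SheafOfModules.toSheaf.{u} R) := by
  haveI : PreservesLimitsOfShape ℕᵒᵖ (SheafOfModules.forget.{u} R) :=
    SheafOfModules.forgetPreservesLimitsOfShape.{u} ℕᵒᵖ R
  haveI : PreservesLimitsOfShape ℕᵒᵖ (SheafOfModules.forget.{u} R ⋙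
      PresheafOfModules.toPresheaf R.obj) := comp_preservesLimitsOfShape _ _
  haveI : PreservesLimitsOfShape ℕᵒᵖ (SheafOfModules.toSheaf.{u} R ⋙ sheafToPresheaf _ _) := this
  exact preservesLimitsOfShape_of_reflects_of_preserves _ (sheafToPresheaf _ _)

end TowerModLib
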